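import Cfsg.Agent.DihedralFourAct.PGLPair
import Cfsg.Agent.AutPSL.FieldCentralizer
import Cfsg.Agent.AutAlt.Basic
import Cfsg.Agent.QuatIntersect.Basic
import Cfsg.Agent.GW.Known

/-!
# A four-group acting on a simple group with dihedral Sylow 2-subgroups

Two commuting involutory automorphisms of `PSL(2, q)` or `A₇` whose centralisers contain no
four-group and do not generate are equal.
-/

set_option autoImplicit false
set_option linter.unusedSectionVars false

namespace CfsgLib.DihedralFourAct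

universe u

open scoped MatrixGroups

/-- The fixed points contain no four-group. -/
def NoFour {X : Type*} [Group X] (α : MulAut X) : Prop :=
  ∀ u v : X, α u = u → α v = v → u * u = 1 → v * v = 1 → u * v = v * u → u = 1 ∨ v = 1 ∨ u = v

/-- Every Sylow 2-subgroup contains a four-group. -/
def SylowFour (X : Type*) [Group X] : Prop :=
  ∀ P : Sylow 2 X, ∃ a b : X, a ∈ P ∧ b ∈ P ∧ a * a = 1 ∧ b * b = 1 ∧ a ≠ 1 ∧ b ≠ 1 ∧ a ≠ b ∧
    a * b = b * a

section congr

variable {X Y : Type*} [Group X] [Group Y] (e : X ≃* Y) {α β : MulAut X}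

theorem noFour_congr (h : NoFour α) : NoFour (MulAut.congr e α) := by
  intro u v hu hv hu2 hv2 huv
  have hu' : α (e.symm u) = e.symm u := e.injective (by simpa [MulAut.congr] using hu)
  have hv' : α (e.symm v) = e.symm v := e.injective (by simpa [MulAut.congr] using hv)
  simpa using h _ _ hu' hv' (by rw [← map_mul, hu2, map_one]) (by rw [← map_mul, hv2, map_one])
    (by rw [← map_mul, huv, map_mul])

theorem sup_fix_congr (h : fix α ⊔ fix β ≠ ⊤) :
    fix (MulAut.congr e α) ⊔ fix (MulAut.congr e β) ≠ ⊤ := by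
  intro htop
  apply h
  have hmap : ∀ γ : MulAut X, (fix (MulAut.congr e γ)).map e.symm.toMonoidHom ≤ fix γ := by
    rintro γ _ ⟨y, hy, rfl⟩
    exact e.injective (by simpa [MulAut.congr, mem_fix] using hy)
  have := congrArg (Subgroup.map e.symm.toMonoidHom) htop
  rw [Subgroup.map_sup, Subgroup.map_top_of_surjective _ e.symm.surjective] at this
  exact top_le_iff.1 (this ▸ sup_le_sup (hmap α) (hmap β))

include e in
theorem sylowFour_congr [Finite X] (h : SylowFour X) : SylowFour Y := by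
  haveI : Fact (Nat.Prime 2) := ⟨Nat.prime_two⟩
  intro P
  let Q : Sylow 2 X := P.comapOfInjective e.toMonoidHom e.injective
    (by rw [MonoidHom.range_eq_top.2 e.surjective]; exact le_top)
  obtain ⟨a, b, ha, hb, h1, h2, h3, h4, h5, h6⟩ := h Q
  exact ⟨e a, e b, ha, hb, by rw [← map_mul, h1, map_one], by rw [← map_mul, h2, map_one],
    by simpa using h3, by simpa using h4, by simpa using h5, by rw [← map_mul, h6, map_mul]⟩

end congr

/-- The centraliser of an inner involution contains a four-group. -/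
theorem not_inner {X : Type*} [Group X] [Finite X] [IsSimpleGroup X] (hnc : ¬ IsMulCommutative X)
    (h4 : SylowFour X) {α : MulAut X} (hα1 : α ≠ 1) (hα2 : α * α = 1) (hα : NoFour α) (s : X) :
    α ≠ MulAut.conj s := by
  haveI : Fact (Nat.Prime 2) := ⟨Nat.prime_two⟩
  rintro rfl
  have hs1 : s ≠ 1 := by rintro rfl; exact hα1 (map_one _)
  have hcen : Subgroup.center X = ⊥ :=
    ((inferInstance : (Subgroup.center X).Normal).eq_bot_or_eq_top).resolve_right fun h =>
      hnc ⟨⟨fun a b => (Subgroup.mem_center_iff.1 (h ▸ Subgroup.mem_top b) a)⟩⟩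
  have hs2 : s * s = 1 := by
    rw [← Subgroup.mem_bot, ← hcen, Subgroup.mem_center_iff]
    intro g
    have := DFunLike.congr_fun hα2 g
    rw [← map_mul, MulAut.one_apply, MulAut.conj_apply, mul_inv_eq_iff_eq_mul] at this
    exact this.symm
  obtain ⟨P, hP⟩ := (IsPGroup.of_card (p := 2) (n := 1) (G := Subgroup.zpowers s) (by
    rw [Nat.card_zpowers, pow_one, orderOf_eq_prime (by rw [pow_two, hs2]) hs1])).exists_le_sylow
  have hsP : s ∈ P := hP (Subgroup.mem_zpowers s)
  obtain ⟨a, b, ha, hb, ha2, hb2, ha1, hb1, hne, -⟩ := h4 P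
  suffices ∃ w, w * w = 1 ∧ w ≠ 1 ∧ w ≠ s ∧ w * s = s * w by
    obtain ⟨w, hw2, hw1, hws, hc⟩ := this
    rcases hα s w (by simp) (by rw [MulAut.conj_apply, ← hc, mul_assoc, mul_inv_cancel, mul_one])
      hs2 hw2 hc.symm with h | h | h
    exacts [hs1 h, hw1 h, hws h.symm]
  by_cases hsc : ∀ x ∈ P, x * s = s * x
  · by_cases has : a = s
    · exact ⟨b, hb2, hb1, fun h => hne (has.trans h.symm), hsc b hb⟩
    · exact ⟨a, ha2, ha1, has, hsc a ha⟩
  · haveI : Nontrivial P := ⟨⟨a, ha⟩, 1, fun h => ha1 (congrArg Subtype.val h)⟩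
    haveI : Nontrivial (Subgroup.center P) := P.isPGroup'.center_nontrivial
    have hdvd : 2 ∣ Nat.card (Subgroup.center P) := by
      obtain ⟨n, hn⟩ := (P.isPGroup'.to_subgroup (Subgroup.center P)).exists_card_eq
      rcases Nat.eq_zero_or_pos n with rfl | hn0
      · exact absurd hn (ne_of_gt (by rw [pow_zero]; exact Finite.one_lt_card))
      · exact hn ▸ dvd_pow_self 2 hn0.ne'
    obtain ⟨⟨⟨z, hzP⟩, hz⟩, hzo⟩ := exists_prime_orderOf_dvd_card' 2 hdvd
    rw [Subgroup.orderOf_mk, Subgroup.orderOf_mk] at hzo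
    have hzc : ∀ x ∈ P, x * z = z * x := fun x hx =>
      congrArg Subtype.val (Subgroup.mem_center_iff.1 hz ⟨x, hx⟩)
    refine ⟨z, by rw [← pow_two, ← hzo, pow_orderOf_eq_one], ?_, ?_, (hzc s hsP).symm⟩
    · rintro rfl
      simp at hzo
    · rintro rfl
      exact hsc hzc

section alt

open Equiv

theorem alt_seven_four (σ : Perm (Fin 7)) (hσ : σ * σ = 1) (h1 : σ ≠ 1) :
    ∃ u v : Perm (Fin 7), Perm.sign u = 1 ∧ Perm.sign v = 1 ∧ u * σ = σ * u ∧ v * σ = σ * v ∧
      u * u = 1 ∧ v * v = 1 ∧ u * v = v * u ∧ u ≠ 1 ∧ v ≠ 1 ∧ u ≠ v := by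
  classical
  have key : ∀ τ u v : Perm (Fin 7), Perm.sign u = 1 → Perm.sign v = 1 → u * τ = τ * u → v * τ = τ * v →
      u * u = 1 → v * v = 1 → u * v = v * u → u ≠ 1 → v ≠ 1 → u ≠ v → IsConj τ σ →
      ∃ u v : Perm (Fin 7), Perm.sign u = 1 ∧ Perm.sign v = 1 ∧ u * σ = σ * u ∧ v * σ = σ * v ∧
      u * u = 1 ∧ v * v = 1 ∧ u * v = v * u ∧ u ≠ 1 ∧ v ≠ 1 ∧ u ≠ v := by
    intro τ u v hu hv hu' hv' hu2 hv2 huv hu1 hv1 hne hc
    obtain ⟨c, rfl⟩ := isConj_iff.1 hc
    refine ⟨MulAut.conj c u, MulAut.conj c v, by simp [hu], by simp [hv], ?_, ?_, ?_, ?_, ?_, ?_, ?_, ?_⟩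
    · rw [← MulAut.conj_apply c τ, ← map_mul, hu', map_mul]
    · rw [← MulAut.conj_apply c τ, ← map_mul, hv', map_mul]
    · rw [← map_mul, hu2, map_one]
    · rw [← map_mul, hv2, map_one]
    · rw [← map_mul, huv, map_mul]
    · simpa using hu1
    · simpa using hv1
    · simpa using hne
  have ho : orderOf σ = 2 := orderOf_eq_prime (by rw [pow_two, hσ]) h1
  have hall : ∀ n ∈ σ.cycleType, n = 2 := fun n hn => by
    have h2 := Perm.two_le_of_mem_cycleType hn
    have := Nat.le_of_dvd two_pos (ho ▸ Perm.dvd_of_mem_cycleType hn)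
    omega
  have hrep : σ.cycleType = Multiset.replicate (Multiset.card σ.cycleType) 2 :=
    Multiset.eq_replicate_card.2 hall
  have hsum : σ.cycleType.sum ≤ 7 := by
    rw [Perm.sum_cycleType]
    exact (Finset.card_le_univ _).trans (le_of_eq (Fintype.card_fin 7))
  rw [hrep, Multiset.sum_replicate, smul_eq_mul] at hsum
  have hpos : 1 ≤ Multiset.card σ.cycleType := by
    rw [Nat.one_le_iff_ne_zero, Ne, Multiset.card_eq_zero, Perm.cycleType_eq_zero]
    exact h1
  rcases (show Multiset.card σ.cycleType = 1 ∨ Multiset.card σ.cycleType = 2 ∨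
    Multiset.card σ.cycleType = 3 by omega) with h | h | h <;> rw [h] at hrep
  · refine key (swap 0 1) (swap 2 3 * swap 4 5) (swap 2 4 * swap 3 5) ?_ ?_ ?_ ?_ ?_ ?_ ?_ ?_ ?_ ?_
      (Perm.isConj_iff_cycleType_eq.2 (hrep ▸ ?_)) <;> decide +kernel
  · refine key (swap 0 1 * swap 2 3) (swap 0 1 * swap 2 3) (swap 0 2 * swap 1 3) ?_ ?_ ?_ ?_ ?_ ?_ ?_ ?_ ?_ ?_
      (Perm.isConj_iff_cycleType_eq.2 (hrep ▸ ?_)) <;> decide +kernel
  · refine key (swap 0 1 * swap 2 3 * swap 4 5) (swap 0 1 * swap 2 3) (swap 2 3 * swap 4 5)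
      ?_ ?_ ?_ ?_ ?_ ?_ ?_ ?_ ?_ ?_
      (Perm.isConj_iff_cycleType_eq.2 (hrep ▸ ?_)) <;> decide +kernel

theorem alt_seven_false (α : MulAut (alternatingGroup (Fin 7))) (hα1 : α ≠ 1) (hα2 : α * α = 1)
    (hα : NoFour α) : False := by
  have hbij := AutAlt.conjNormal_bijective (α := Fin 7) (by simp) (by simp)
  obtain ⟨σ, rfl⟩ := hbij.2 α
  have hσ2 : σ * σ = 1 := hbij.1 (by rw [map_mul, hα2, map_one])
  have hσ1 : σ ≠ 1 := by
    rintro rfl
    exact hα1 (map_one _)
  obtain ⟨u, v, hu, hv, hu', hv', hu2, hv2, huv, hu1, hv1, hne⟩ := alt_seven_four σ hσ2 hσ1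
  rcases hα ⟨u, Perm.mem_alternatingGroup.2 hu⟩ ⟨v, Perm.mem_alternatingGroup.2 hv⟩
    (Subtype.ext (by rw [MulAut.conjNormal_apply]; rw [← hu', mul_inv_cancel_right]))
    (Subtype.ext (by rw [MulAut.conjNormal_apply]; rw [← hv', mul_inv_cancel_right]))
    (Subtype.ext hu2) (Subtype.ext hv2) (Subtype.ext huv) with h | h | h
  exacts [hu1 (congrArg Subtype.val h), hv1 (congrArg Subtype.val h), hne (congrArg Subtype.val h)]

end alt

open Matrix CfsgLib.AutPSL CfsgLib.SL2Trace CfsgLib.DicksonPSL2 in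
/-- The shape of a non-inner involutory automorphism without a fixed four-group. -/
theorem psl_shape {F : Type*} [Field F] [Fintype F] (hodd : Odd (Fintype.card F))
    [IsSimpleGroup PSL(2, F)] (hnc : ¬ IsMulCommutative PSL(2, F)) (h4 : SylowFour PSL(2, F))
    (α : MulAut PSL(2, F)) (hα1 : α ≠ 1) (hα2 : α * α = 1) (hα : NoFour α) :
    ∃ (M : GL (Fin 2) F) (e : F), OuterInv M e ∧ α = toPSLAut (conjSL M) := by
  classical
  obtain ⟨p, hp⟩ := CharP.exists F
  haveI : Fact p.Prime := ⟨CharP.char_is_prime F p⟩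
  have h2 := SL2Tori.two_ne_zero_of_odd hodd
  obtain ⟨M, σ, rfl⟩ : ∃ g σ, α = toPSLAut (conjSL g * fieldSL σ) :=
    (form_cases le_rfl α).resolve_right (fun h => absurd h.1 (by norm_num))
  have hpow : (toPSLAut (conjSL M * fieldSL σ)) ^ 2 = 1 := by rw [pow_two, hα2]
  obtain ⟨hσ2, -⟩ := (mul_field_pow_eq_one_iff p σ M 2).1 hpow
  by_cases hσ : σ = 1
  swap
  · exfalso
    have ho : orderOf σ = 2 := orderOf_eq_prime hσ2 hσ
    obtain ⟨h, hh⟩ := isConj_field_of_pow_eq_one le_rfl ho two_pos M hpow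
    set K := FixedField.fixedSub σ
    haveI : Fintype K := Fintype.ofFinite _
    have hKodd : Odd (Fintype.card K) := by
      have := FixedField.card_pow σ ho
      rw [Nat.card_eq_fintype_card] at this
      rw [this] at hodd
      exact (Nat.odd_pow_iff two_ne_zero).1 hodd
    obtain ⟨P⟩ := exists_quatPair hKodd
    have hc4 := P.card_four
    haveI := isKleinFour_four P
    haveI : Nontrivial P.four := Finite.one_lt_card_iff_nontrivial.1 (by omega)
    obtain ⟨u, hu⟩ := exists_ne (1 : P.four)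
    obtain ⟨v, hv1, hvu⟩ : ∃ v : P.four, v ≠ 1 ∧ v ≠ u := by
      by_contra hh'
      push_neg at hh'
      haveI : Fintype P.four := Fintype.ofFinite _
      have : Finset.univ ⊆ ({1, u} : Finset P.four) := fun v _ => by
        by_cases hv : v = 1
        · simp [hv]
        · simp [hh' v hv]
      have h' := (Finset.card_le_card this).trans Finset.card_le_two
      rw [Finset.card_univ, ← Nat.card_eq_fintype_card] at h'
      omega
    have hcomm : u * v = v * u := by
      rw [← IsKleinFour.inv_eq_self (u * v), _root_.mul_inv_rev, IsKleinFour.inv_eq_self u,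
        IsKleinFour.inv_eq_self v]
    set f : PSL(2, K) →* PSL(2, F) := (toPSLAut (conjSL h)).toMonoidHom.comp (psiS K.subtype 1)
    have hf : Function.Injective f := (toPSLAut (conjSL h)).injective.comp (psiS_injective _ _)
    have hfix : ∀ x, toPSLAut (conjSL M * fieldSL σ) (f x) = f x := by
      intro x
      obtain ⟨B, rfl⟩ := proj_surjective x
      rw [hh]
      show toPSLAut (conjSL h) (toPSLAut (fieldSL σ) ((toPSLAut (conjSL h))⁻¹
        (toPSLAut (conjSL h) (psiS K.subtype 1 (proj B))))) = _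
      rw [MulAut.inv_apply_self, psiS_proj, toPSLAut_mk]
      refine congrArg (fun y => toPSLAut (conjSL h) (proj y)) ?_
      rw [show psiSL K.subtype 1 B = SpecialLinearGroup.map K.subtype B from
        Subtype.ext (by rw [coe_psiSL, psiMat_apply]; ext i j; fin_cases i <;> fin_cases j <;> simp)]
      exact fieldSL_map_subtype σ B
    rcases hα (f u) (f v) (hfix u) (hfix v)
      (by rw [← map_mul, ← Subgroup.coe_mul, IsKleinFour.mul_self, Subgroup.coe_one, map_one])
      (by rw [← map_mul, ← Subgroup.coe_mul, IsKleinFour.mul_self, Subgroup.coe_one, map_one])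
      (by rw [← map_mul, ← map_mul, ← Subgroup.coe_mul, hcomm, Subgroup.coe_mul]) with e' | e' | e'
    · exact hu (Subtype.ext (hf (e'.trans (map_one f).symm)))
    · exact hv1 (Subtype.ext (hf (e'.trans (map_one f).symm)))
    · exact hvu (Subtype.ext (hf e')).symm
  subst hσ
  rw [map_one, mul_one] at hpow hα hα1 hα2 ⊢
  rw [← map_pow, ← map_one (toPSLAut (ι := Fin 2) (F := F)), (toPSLAut_injective p).eq_iff, ← map_pow,
    conjSL_eq_one_iff] at hpow
  obtain ⟨c, hc⟩ := hpow
  have hsq : M.1 * M.1 = (c : F) • 1 := by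
    rw [← pow_two, ← Units.val_pow_eq_pow_val, hc]
    ext i j
    fin_cases i <;> fin_cases j <;> simp [Matrix.scalar]
  have htr : M.1.trace = 0 := by
    by_contra ht
    apply hα1
    rw [show conjSL M = 1 from ?_, map_one]
    have hrel : M.1.trace • M.1 = ((c : F) + M.1.det) • (1 : Matrix (Fin 2) (Fin 2) F) := by
      rw [add_smul, ← hsq]
      ext i j
      fin_cases i <;> fin_cases j <;>
        simp [Matrix.mul_apply, Fin.sum_univ_two, Matrix.trace_fin_two, Matrix.det_fin_two] <;> ring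
    have hM : M.1 = (((c : F) + M.1.det) / M.1.trace) • (1 : Matrix (Fin 2) (Fin 2) F) := by
      rw [div_eq_inv_mul, mul_smul, ← hrel, smul_smul, inv_mul_cancel₀ ht, one_smul]
    rw [conjSL_eq_one_iff]
    refine ⟨Units.mk0 (((c : F) + M.1.det) / M.1.trace)
      (fun h0 => M.ne_zero (by rw [hM, h0, zero_smul])), Units.ext ?_⟩
    refine hM.trans ?_
    ext i j
    fin_cases i <;> fin_cases j <;> simp [Matrix.scalar]
  refine ⟨M, c, ⟨htr, hsq, ?_⟩, rfl⟩
  rintro ⟨d, hd⟩
  have hd0 : d ≠ 0 := fun h0 => M.det.ne_zero (by simpa [h0] using hd)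
  let A : SL(2, F) := ⟨d⁻¹ • M.1, by rw [Matrix.det_smul, hd, Fintype.card_fin]; field_simp⟩
  apply not_inner hnc h4 hα1 hα2 hα (proj A)
  have hM : M = GeneralLinearGroup.scalar (Fin 2) (Units.mk0 d hd0) * SpecialLinearGroup.toGL A := by
    apply Units.ext
    show M.1 = Matrix.scalar (Fin 2) d * (d⁻¹ • M.1)
    ext i j
    simp [Matrix.scalar, Matrix.diagonal_mul]
    field_simp
  have e1 : conjSL M = MulAut.conj A := by
    rw [hM, map_mul, conjSL_scalar, one_mul, conjSL_toGL]
  rw [e1, toPSLAut_conj]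

open Matrix CfsgLib.AutPSL in
theorem psl_case {F : Type*} [Field F] [Fintype F] (hodd : Odd (Fintype.card F))
    (h5 : 5 ≤ Fintype.card F)
    [IsSimpleGroup PSL(2, F)] (hnc : ¬ IsMulCommutative PSL(2, F)) (h4 : SylowFour PSL(2, F))
    (α β : MulAut PSL(2, F)) (hα1 : α ≠ 1) (hβ1 : β ≠ 1) (hα2 : α * α = 1) (hβ2 : β * β = 1)
    (hc : α * β = β * α) (hα : NoFour α) (hβ : NoFour β) (hgen : fix α ⊔ fix β ≠ ⊤) : α = β := by
  classical
  obtain ⟨p, hp⟩ := CharP.exists F
  haveI : Fact p.Prime := ⟨CharP.char_is_prime F p⟩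
  obtain ⟨M, e, hM, rfl⟩ := psl_shape hodd hnc h4 α hα1 hα2 hα
  obtain ⟨N, f, hN, rfl⟩ := psl_shape hodd hnc h4 β hβ1 hβ2 hβ
  rw [← map_mul toPSLAut, ← map_mul toPSLAut] at hc
  have hc' := toPSLAut_injective p hc
  rw [← map_mul, ← map_mul, ← mul_inv_eq_one, ← map_inv, ← map_mul, conjSL_eq_one_iff] at hc'
  obtain ⟨u, hu⟩ := hc'
  rw [mul_inv_eq_iff_eq_mul] at hu
  have hu' : M.1 * N.1 = (u : F) • (N.1 * M.1) := by
    have := congrArg Units.val hu
    rw [Units.val_mul, Units.val_mul] at this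
    rw [this, Units.val_mul]
    ext i j
    simp [Matrix.scalar, Matrix.diagonal_mul]
  by_cases hne : ∀ w : F, N.1 ≠ w • M.1
  · exact absurd (fix_sup_fix hodd h5 hM hN
      (anticomm (SL2Tori.two_ne_zero_of_odd hodd) hM.trace_zero hN.trace_zero hM.sq hu' hne)) hgen
  push_neg at hne
  obtain ⟨w, hw⟩ := hne
  have hw0 : w ≠ 0 := fun h0 => N.ne_zero (by rw [hw, h0, zero_smul])
  have hNM : N = GeneralLinearGroup.scalar (Fin 2) (Units.mk0 w hw0) * M := by
    apply Units.ext
    rw [Units.val_mul, hw]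
    ext i j
    simp [Matrix.scalar, Matrix.diagonal_mul]
  rw [hNM, map_mul conjSL, conjSL_scalar, one_mul]

/-- Two involutions acting on a simple group with dihedral Sylow 2-subgroups. -/
theorem main (hGW : QuatIntersect.PerfectDihedralClassification.{u}) {G : Type u} [Group G] [Finite G]
    (L : Subgroup G) (hL : IsSimpleGroup L) (hLn : ¬ IsMulCommutative L)
    (hD : ∀ P : Sylow 2 L, ∃ n : ℕ, Nonempty (↥(P : Subgroup L) ≃* DihedralGroup n))
    (a b : G) (ha : a * a = 1) (hb : b * b = 1) (hc : a * b = b * a)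
    (haL : a ∈ Subgroup.normalizer (L : Set G)) (hbL : b ∈ Subgroup.normalizer (L : Set G))
    (hCa : ∀ R : Sylow 2 ↥(L ⊓ Subgroup.centralizer ({a} : Set G)), IsCyclic R)
    (hCb : ∀ R : Sylow 2 ↥(L ⊓ Subgroup.centralizer ({b} : Set G)), IsCyclic R)
    (hgen : ¬ L ≤ (L ⊓ Subgroup.centralizer ({a} : Set G)) ⊔ (L ⊓ Subgroup.centralizer ({b} : Set G))) :
    a * b ∈ Subgroup.centralizer (L : Set G) := by
  classical
  haveI : Fact (Nat.Prime 2) := ⟨Nat.prime_two⟩
  set φ := L.normalizerMonoidHom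
  set α := φ ⟨a, haL⟩ with hαdef
  set β := φ ⟨b, hbL⟩ with hβdef
  have hφ : ∀ (c : G) (hcL : c ∈ Subgroup.normalizer (L : Set G)) (x : L),
      ((φ ⟨c, hcL⟩ x : L) : G) = c * x * c⁻¹ := fun c hcL x => rfl
  have hfix : ∀ (c : G) (hcL : c ∈ Subgroup.normalizer (L : Set G)),
      (fix (φ ⟨c, hcL⟩)).map L.subtype = L ⊓ Subgroup.centralizer ({c} : Set G) := by
    intro c hcL
    ext x
    constructor
    · rintro ⟨x, hx, rfl⟩
      have h := congrArg Subtype.val (mem_fix.1 hx)
      rw [hφ, mul_inv_eq_iff_eq_mul] at h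
      exact ⟨x.2, Subgroup.mem_centralizer_singleton_iff.2 h.symm⟩
    · rintro ⟨hxL, hx⟩
      refine ⟨⟨x, hxL⟩, mem_fix.2 (Subtype.ext ?_), rfl⟩
      rw [hφ, mul_inv_eq_iff_eq_mul]
      exact (Subgroup.mem_centralizer_singleton_iff.1 hx).symm
  have hgen' : fix α ⊔ fix β ≠ ⊤ := by
    intro h
    apply hgen
    rw [← hfix a haL, ← hfix b hbL, ← Subgroup.map_sup, ← hαdef, ← hβdef, h, ← MonoidHom.range_eq_map,
      Subgroup.range_subtype]
  have hnofour : ∀ (c : G) (hcL : c ∈ Subgroup.normalizer (L : Set G)),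
      (∀ R : Sylow 2 ↥(L ⊓ Subgroup.centralizer ({c} : Set G)), IsCyclic R) → NoFour (φ ⟨c, hcL⟩) := by
    intro c hcL hR u v hu hv hu2 hv2 huv
    by_contra hne
    push_neg at hne
    obtain ⟨hu1, hv1, huv'⟩ := hne
    set C := L ⊓ Subgroup.centralizer ({c} : Set G)
    have mem : ∀ x : L, φ ⟨c, hcL⟩ x = x → (x : G) ∈ C := fun x hx =>
      (hfix c hcL).le ⟨x, hx, rfl⟩
    set u' : C := ⟨u, mem u hu⟩
    set v' : C := ⟨v, mem v hv⟩
    have pgroup : ∀ w : C, w * w = 1 → IsPGroup 2 (Subgroup.zpowers w) := fun w hw => by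
      rintro ⟨x, k, rfl⟩
      exact ⟨1, Subtype.ext (by simp only [pow_one, SubmonoidClass.coe_pow, OneMemClass.coe_one]; rw [pow_two, ← zpow_add, ← two_mul, zpow_mul, zpow_two, hw, one_zpow])⟩
    have hu'2 : u' * u' = 1 := Subtype.ext (congrArg (fun x : L => (x : G)) hu2)
    have hv'2 : v' * v' = 1 := Subtype.ext (congrArg (fun x : L => (x : G)) hv2)
    have hnorm : Subgroup.zpowers u' ≤ Subgroup.normalizer (Subgroup.zpowers v' : Set C) := by
      rw [Subgroup.zpowers_le]
      refine Subgroup.centralizer_le_normalizer _ ?_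
      rw [Subgroup.mem_centralizer_iff]
      rintro x ⟨k, rfl⟩
      have : Commute u' v' := Subtype.ext (congrArg (fun x : L => (x : G)) huv)
      exact (this.zpow_right k).eq.symm
    obtain ⟨R, hR'⟩ := ((pgroup u' hu'2).to_sup_of_normal_right' (pgroup v' hv'2) hnorm).exists_le_sylow
    haveI := hR R
    haveI : Fintype R := Fintype.ofFinite _
    have hsub : ({1, ⟨u', hR' (Subgroup.mem_sup_left (Subgroup.mem_zpowers u'))⟩,
        ⟨v', hR' (Subgroup.mem_sup_right (Subgroup.mem_zpowers v'))⟩} : Finset R) ⊆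
        Finset.univ.filter fun x => x ^ 2 = 1 := by
      intro x hx
      simp only [Finset.mem_insert, Finset.mem_singleton] at hx
      simp only [Finset.mem_filter, Finset.mem_univ, true_and]
      rcases hx with rfl | rfl | rfl
      · exact one_pow 2
      · exact Subtype.ext (by rw [SubmonoidClass.coe_pow, pow_two]; exact hu'2)
      · exact Subtype.ext (by rw [SubmonoidClass.coe_pow, pow_two]; exact hv'2)
    have h3 := (Finset.card_le_card hsub).trans (IsCyclic.card_pow_eq_one_le (α := R) two_pos)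
    rw [Finset.card_insert_of_notMem, Finset.card_pair] at h3
    · omega
    · intro h
      exact huv' (Subtype.ext (congrArg (fun x : R => ((x : C) : G)) h))
    · simp only [Finset.mem_insert, Finset.mem_singleton, not_or]
      exact ⟨fun h => hu1 (Subtype.ext (congrArg (fun x : R => ((x : C) : G)) h).symm),
        fun h => hv1 (Subtype.ext (congrArg (fun x : R => ((x : C) : G)) h).symm)⟩
  have hα2 : α * α = 1 := by rw [← map_mul, show (⟨a, haL⟩ * ⟨a, haL⟩ : Subgroup.normalizer (L : Set G)) = 1 from Subtype.ext ha, map_one]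
  have hβ2 : β * β = 1 := by rw [← map_mul, show (⟨b, hbL⟩ * ⟨b, hbL⟩ : Subgroup.normalizer (L : Set G)) = 1 from Subtype.ext hb, map_one]
  have hαβ : α * β = β * α := by rw [← map_mul, ← map_mul]; exact congrArg φ (Subtype.ext hc)
  have hα1 : α ≠ 1 := fun h => hgen' (top_le_iff.1 fun x _ => le_sup_left (a := fix α)
    (by rw [mem_fix, h, MulAut.one_apply]))
  have hβ1 : β ≠ 1 := fun h => hgen' (top_le_iff.1 fun x _ => le_sup_right (b := fix β)
    (by rw [mem_fix, h, MulAut.one_apply]))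
  suffices h : α = β by
    have hk : (⟨a, haL⟩ * ⟨b, hbL⟩ : Subgroup.normalizer (L : Set G)) ∈ φ.ker := by
      rw [MonoidHom.mem_ker, map_mul, ← hαdef, ← hβdef, ← h, hα2]
    rw [Subgroup.normalizerMonoidHom_ker] at hk
    exact hk
  have hO : ∀ P : Sylow 2 L, 2 ∣ Nat.card (P : Subgroup L) → Cfsg.oddCore L = ⊥ := by
    intro P hP
    refine (hL.eq_bot_or_eq_top_of_normal _ inferInstance).resolve_right fun htop => ?_
    have h' := PLocal.coprime_card_pPrimeCore 2 L
    rw [show Cfsg.pPrimeCore 2 L = ⊤ from htop, Subgroup.card_top] at h'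
    exact PLocal.not_dvd_iff_coprime.1 h' (hP.trans (P : Subgroup L).card_subgroup_dvd_card)
  -- the Sylow 2-subgroups contain four-groups
  have hn2 : ∀ P : Sylow 2 L, ∃ n : ℕ, 2 ≤ n ∧ Nonempty (↥(P : Subgroup L) ≃* DihedralGroup n) := by
    intro P
    obtain ⟨n, ⟨e⟩⟩ := hD P
    refine ⟨n, ?_, ⟨e⟩⟩
    by_contra hn
    have hcard := Nat.card_congr e.toEquiv
    rw [DihedralGroup.nat_card] at hcard
    have hn1 : n = 1 := by
      have : 0 < Nat.card (P : Subgroup L) := Nat.card_pos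
      omega
    subst hn1
    have hc2 : Nat.card (P : Subgroup L) = 2 := hcard
    haveI : IsCyclic (P : Subgroup L) := isCyclic_of_prime_card (p := 2) hc2
    have h2g := GW.isPGroup_of_cyclic_sylow P inferInstance (hO P (by rw [hc2]))
    haveI : Group.IsNilpotent L := h2g.isNilpotent
    haveI : Group.IsSolvable L := inferInstance
    exact hLn ⟨⟨IsSimpleGroup.comm_iff_isSolvable.2 inferInstance⟩⟩
  have h4 : SylowFour L := by
    intro P
    obtain ⟨n, hn, ⟨e⟩⟩ := hn2 P
    obtain ⟨x, y, hx, hy, hx1, hy1, hxy, hcxy⟩ := GW.exists_four_of_dihedral hn P.isPGroup' e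
    exact ⟨x, y, x.2, y.2, congrArg Subtype.val hx, congrArg Subtype.val hy,
      fun h => hx1 (Subtype.ext h), fun h => hy1 (Subtype.ext h), fun h => hxy (Subtype.ext h),
      congrArg Subtype.val hcxy⟩
  haveI : Group.IsPerfect L := ⟨by
    refine (hL.eq_bot_or_eq_top_of_normal _ inferInstance).resolve_left fun h => hLn ⟨⟨fun x y => ?_⟩⟩
    have := Subgroup.commutator_mem_commutator (Subgroup.mem_top x) (Subgroup.mem_top y)
    rw [← commutator_def, h, Subgroup.mem_bot, commutatorElement_eq_one_iff_mul_comm] at this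
    exact this⟩
  obtain ⟨P₀⟩ : Nonempty (Sylow 2 L) := inferInstance
  obtain ⟨n, hn, he⟩ := hn2 P₀
  have hO0 := hO P₀ (by rw [Nat.card_congr he.some.toEquiv, DihedralGroup.nat_card]; exact dvd_mul_right 2 n)
  let eQ : L ≃* L ⧸ Cfsg.oddCore L :=
    MulEquiv.ofBijective (QuotientGroup.mk' _)
      ⟨fun x y h => by rwa [← div_eq_one, ← map_div, ← MonoidHom.mem_ker, QuotientGroup.ker_mk', hO0, Subgroup.mem_bot, div_eq_one] at h,
        QuotientGroup.mk'_surjective _⟩
  rcases hGW P₀ n hn he with ⟨F, _, _, hodd, h3, ⟨e⟩⟩ | ⟨⟨e⟩⟩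
  · let e' : L ≃* Matrix.ProjectiveSpecialLinearGroup (Fin 2) F := eQ.trans e
    have h5 : 5 ≤ Fintype.card F := by obtain ⟨k, hk⟩ := hodd; omega
    haveI : IsSimpleGroup (Matrix.ProjectiveSpecialLinearGroup (Fin 2) F) := e'.symm.isSimpleGroup
    have hnc : ¬ IsMulCommutative (Matrix.ProjectiveSpecialLinearGroup (Fin 2) F) := fun h =>
      hLn ⟨⟨fun x y => e'.injective (by rw [map_mul, map_mul]; exact h.is_comm.comm _ _)⟩⟩
    apply (MulAut.congr e').injective
    exact psl_case hodd h5 hnc (sylowFour_congr e' h4) _ _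
      (fun h => hα1 ((MulAut.congr e').injective (h.trans (map_one _).symm)))
      (fun h => hβ1 ((MulAut.congr e').injective (h.trans (map_one _).symm)))
      (by rw [← map_mul, hα2, map_one]) (by rw [← map_mul, hβ2, map_one])
      (by rw [← map_mul, hαβ, map_mul]) (noFour_congr e' (hnofour a haL hCa))
      (noFour_congr e' (hnofour b hbL hCb)) (sup_fix_congr e' hgen')
  · exfalso
    let e' := eQ.trans e
    exact alt_seven_false (MulAut.congr e' α)
      (fun h => hα1 ((MulAut.congr e').injective (h.trans (map_one _).symm)))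
      (by rw [← map_mul, hα2, map_one]) (noFour_congr e' (hnofour a haL hCa))

end CfsgLib.DihedralFourAct
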