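import Cfsg.Agent.DicksonPSL2.PGLMaximal
import Cfsg.Agent.AutPSL.FieldAut
import Cfsg.Agent.AutPSL.AutOrder

/-!
# Two commuting outer diagonal involutions of `PSL(2, q)`

Their centralisers generate `PSL(2, q)`: the tori they centralise would otherwise lie in a common
maximal subgroup of `PGL(2, q)` containing both involutions, and none does.
-/

set_option autoImplicit false
set_option linter.unusedSectionVars false
set_option maxHeartbeats 800000

namespace CfsgLib.DihedralFourAct

open Matrix CfsgLib.SL2Trace CfsgLib.DicksonPSL2 CfsgLib.AutPSL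
open CfsgLib.SL2Tori (tr)
open scoped MatrixGroups

variable {F : Type*} [Field F]

/-- The fixed points of an automorphism. -/
def fix {X : Type*} [Group X] (α : MulAut X) : Subgroup X :=
  MonoidHom.eqLocus α.toMonoidHom (MonoidHom.id X)

theorem mem_fix {X : Type*} [Group X] {α : MulAut X} {x : X} : x ∈ fix α ↔ α x = x := Iff.rfl

/-- The matrix `x + y M`. -/
def comb (M : Matrix (Fin 2) (Fin 2) F) (x y : F) : Matrix (Fin 2) (Fin 2) F := x • 1 + y • M

/-- Data of an outer diagonal involution: a trace zero matrix with square a scalar `e`. -/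
structure OuterInv (M : GL (Fin 2) F) (e : F) : Prop where
  trace_zero : M.1.trace = 0
  sq : M.1 * M.1 = e • 1
  not_sq : ¬ IsSquare M.1.det

theorem det_eq_neg {M : Matrix (Fin 2) (Fin 2) F} {e : F} (ht : M.trace = 0) (hsq : M * M = e • 1) :
    M.det = -e := by
  have h := congrFun (congrFun hsq 0) 0
  rw [Matrix.trace_fin_two] at ht
  simp [Matrix.mul_apply, Fin.sum_univ_two] at h
  rw [Matrix.det_fin_two]
  linear_combination M 0 0 * ht - h

theorem det_comb {M : Matrix (Fin 2) (Fin 2) F} {e : F} (ht : M.trace = 0) (hd : M.det = -e)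
    (x y : F) : (comb M x y).det = x ^ 2 - e * y ^ 2 := by
  rw [Matrix.trace_fin_two] at ht
  rw [Matrix.det_fin_two] at hd
  simp [comb, Matrix.det_fin_two]
  linear_combination x * y * ht + y ^ 2 * hd

theorem trace_comb {M : Matrix (Fin 2) (Fin 2) F} (ht : M.trace = 0) (x y : F) :
    (comb M x y).trace = 2 * x := by
  simp [comb, ht]
  ring

section torusElement

variable {M : GL (Fin 2) F} {e : F} (hM : OuterInv M e)
include hM

theorem OuterInv.e_ne_zero : e ≠ 0 := by
  rintro rfl
  exact M.det.ne_zero (by simpa using det_eq_neg hM.trace_zero hM.sq)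

theorem OuterInv.e_sq_ne {s : F} : e * s ^ 2 ≠ -1 := by
  intro h
  apply hM.not_sq
  rw [det_eq_neg hM.trace_zero hM.sq]
  have hs : s ≠ 0 := by rintro rfl; simp at h
  exact ⟨s⁻¹, by field_simp; linear_combination -h⟩

theorem OuterInv.det_point {s : F} (hs : e * s ^ 2 - 1 ≠ 0) :
    (comb M.1 ((e * s ^ 2 + 1) / (e * s ^ 2 - 1)) (2 * s / (e * s ^ 2 - 1))).det = 1 := by
  rw [det_comb hM.trace_zero (det_eq_neg hM.trace_zero hM.sq)]
  field_simp
  ring

/-- The torus centralised by an outer involution contains an element of trace different from `0`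
and `±2`. -/
theorem OuterInv.exists_generic [Fintype F] (hodd : Odd (Fintype.card F)) (h5 : 5 ≤ Fintype.card F) :
    ∃ (A : SL(2, F)) (x y : F), A.1 = comb M.1 x y ∧ x ≠ 0 ∧ y ≠ 0 := by
  classical
  have h2 := SL2Tori.two_ne_zero_of_odd hodd
  suffices h : ∃ s : F, s ≠ 0 ∧ e * s ^ 2 - 1 ≠ 0 by
    obtain ⟨s, hs, hes⟩ := h
    refine ⟨⟨_, hM.det_point hes⟩, _, _, rfl, div_ne_zero ?_ hes, div_ne_zero (mul_ne_zero h2 hs) hes⟩
    exact fun h => hM.e_sq_ne (eq_neg_of_add_eq_zero_left h)
  by_contra h
  push_neg at h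
  have hcard : ((Finset.univ : Finset F).erase 0).card ≤ 2 := by
    by_cases hex : ∃ r : F, e * r ^ 2 - 1 = 0
    · obtain ⟨r, hr⟩ := hex
      refine (Finset.card_le_card (t := {r, -r}) fun s hs => ?_).trans Finset.card_le_two
      rw [Finset.mem_erase] at hs
      have : (s - r) * (s + r) = 0 := by
        have h' := h s hs.1
        exact (mul_eq_zero.1 (show e * ((s - r) * (s + r)) = 0 by linear_combination h' - hr)).resolve_left
          hM.e_ne_zero
      rcases mul_eq_zero.1 this with h' | h'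
      · simp [sub_eq_zero.1 h']
      · simp [eq_neg_of_add_eq_zero_left h']
    · push_neg at hex
      exact absurd (h 1 one_ne_zero) (hex 1)
  rw [Finset.card_erase_of_mem (Finset.mem_univ _), Finset.card_univ] at hcard
  omega

/-- The torus centralised by an outer involution has at least `q - 1` lifts. -/
theorem OuterInv.card_lifts [Fintype F] (hodd : Odd (Fintype.card F)) :
    Fintype.card F - 1 ≤ Nat.card {A : SL(2, F) // ∃ x y, A.1 = comb M.1 x y} := by
  classical
  have h2 := SL2Tori.two_ne_zero_of_odd hodd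
  have : Fintype {A : SL(2, F) // ∃ x y, A.1 = comb M.1 x y} := Fintype.ofFinite _
  let Ω := {s : F // e * s ^ 2 - 1 ≠ 0}
  have hΩ : Fintype.card F ≤ Fintype.card Ω + 2 := by
    have hcard : (Finset.univ.filter fun s : F => e * s ^ 2 - 1 = 0).card ≤ 2 := by
      by_cases hex : ∃ r : F, e * r ^ 2 - 1 = 0
      · obtain ⟨r, hr⟩ := hex
        refine (Finset.card_le_card (t := {r, -r}) fun s hs => ?_).trans Finset.card_le_two
        rw [Finset.mem_filter] at hs
        have : (s - r) * (s + r) = 0 :=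
          (mul_eq_zero.1 (show e * ((s - r) * (s + r)) = 0 by linear_combination hs.2 - hr)).resolve_left
            hM.e_ne_zero
        rcases mul_eq_zero.1 this with h' | h'
        · simp [sub_eq_zero.1 h']
        · simp [eq_neg_of_add_eq_zero_left h']
      · push_neg at hex
        rw [Finset.filter_eq_empty_iff.2 fun s _ => hex s]
        simp
    have h := Finset.card_filter_add_card_filter_not (s := (Finset.univ : Finset F))
      (p := fun s => e * s ^ 2 - 1 = 0)
    rw [Finset.card_univ] at h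
    rw [show Fintype.card Ω = (Finset.univ.filter fun s : F => ¬ (e * s ^ 2 - 1 = 0)).card from
      Fintype.card_subtype _]
    omega
  let f : Option Ω → {A : SL(2, F) // ∃ x y, A.1 = comb M.1 x y} := fun o => match o with
    | none => ⟨1, 1, 0, by simp [comb]⟩
    | some s => ⟨⟨_, hM.det_point s.2⟩, _, _, rfl⟩
  have hf : Function.Injective f := by
    have key : ∀ {x y x' y' : F}, comb M.1 x y = comb M.1 x' y' → x = x' ∧ y = y' := by
      intro x y x' y' h
      have hx : x = x' := by
        have := congrArg Matrix.trace h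
        rw [trace_comb hM.trace_zero, trace_comb hM.trace_zero] at this
        exact mul_left_cancel₀ h2 this
      subst hx
      refine ⟨rfl, ?_⟩
      have h0 : (y - y') • M.1 = 0 := by
        rw [sub_smul, sub_eq_zero]
        exact add_left_cancel (a := x • (1 : Matrix (Fin 2) (Fin 2) F)) h
      exact sub_eq_zero.1 ((smul_eq_zero.1 h0).resolve_right M.ne_zero)
    have one_eq : (1 : SL(2, F)).1 = comb M.1 1 0 := by simp [comb]
    rintro (_ | ⟨s, hs⟩) (_ | ⟨t, ht⟩) h
    · rfl
    · exfalso
      have h' : (1 : SL(2, F)).1 = _ := congrArg (fun A => A.1.1) h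
      obtain ⟨h1, -⟩ := key (one_eq.symm.trans h')
      rw [eq_div_iff ht] at h1
      exact h2 (by linear_combination -h1)
    · exfalso
      have h' : _ = (1 : SL(2, F)).1 := congrArg (fun A => A.1.1) h
      obtain ⟨h1, -⟩ := key (h'.trans one_eq)
      rw [div_eq_iff hs] at h1
      exact h2 (by linear_combination h1)
    · obtain ⟨h1, h3⟩ := key (congrArg (fun A => A.1.1) h)
      change (e * s ^ 2 + 1) / (e * s ^ 2 - 1) = (e * t ^ 2 + 1) / (e * t ^ 2 - 1) at h1
      change 2 * s / (e * s ^ 2 - 1) = 2 * t / (e * t ^ 2 - 1) at h3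
      rw [div_eq_div_iff hs ht] at h1
      have hden : e * s ^ 2 - 1 = e * t ^ 2 - 1 := mul_left_cancel₀ h2 (by linear_combination -h1)
      rw [hden, div_left_inj' ht] at h3
      simp [mul_left_cancel₀ h2 h3]
  have := Fintype.card_le_of_injective f hf
  rw [Fintype.card_option] at this
  rw [Nat.card_eq_fintype_card]
  omega

end torusElement

/-- Trace zero matrices commuting up to a scalar are proportional or anticommute. -/
theorem anticomm {M N : GL (Fin 2) F} {e : F} (h2 : (2 : F) ≠ 0) (hM : M.1.trace = 0)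
    (hN : N.1.trace = 0) (hMM : M.1 * M.1 = e • 1) {c : F} (hc : M.1 * N.1 = c • (N.1 * M.1))
    (hne : ∀ u : F, N.1 ≠ u • M.1) : N.1 * M.1 = -(M.1 * N.1) := by
  have hsum : M.1 * N.1 + N.1 * M.1 = (M.1 * N.1).trace • (1 : Matrix (Fin 2) (Fin 2) F) := by
    rw [Matrix.trace_fin_two] at hM hN
    have a := eq_neg_of_add_eq_zero_right hM
    have b := eq_neg_of_add_eq_zero_right hN
    ext i j
    fin_cases i <;> fin_cases j <;>
      simp [Matrix.mul_apply, Fin.sum_univ_two, Matrix.trace_fin_two, a, b] <;> ring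
  by_cases h1 : c = -1
  · rw [hc, h1, neg_one_smul, neg_neg]
  exfalso
  have he : e ≠ 0 := by
    rintro rfl
    rw [zero_smul] at hMM
    exact (M * M).ne_zero hMM
  set t := (M.1 * N.1).trace
  have h' : N.1 * M.1 = (t / (c + 1)) • (1 : Matrix (Fin 2) (Fin 2) F) := by
    have hc1 : c + 1 ≠ 0 := fun h => h1 (eq_neg_of_add_eq_zero_left h)
    rw [hc] at hsum
    rw [div_eq_inv_mul, mul_smul, eq_inv_smul_iff₀ hc1, add_smul, one_smul]
    exact hsum
  apply hne (t / (c + 1) / e)
  have h'' := congrArg (· * M.1) h'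
  simp only [mul_assoc, hMM, mul_smul_comm, mul_one, smul_mul_assoc, one_mul] at h''
  rw [div_eq_inv_mul _ e, mul_smul, ← h'', smul_smul, inv_mul_cancel₀ he, one_smul]

variable [Fintype F]

/-- The fixed points of two commuting outer diagonal involutions generate. -/
theorem fix_sup_fix (hodd : Odd (Fintype.card F)) (h5 : 5 ≤ Fintype.card F)
    [IsSimpleGroup PSL(2, F)] {M N : GL (Fin 2) F} {e f : F} (hM : OuterInv M e) (hN : OuterInv N f)
    (hanti : N.1 * M.1 = -(M.1 * N.1)) :
    fix (toPSLAut (conjSL M)) ⊔ fix (toPSLAut (conjSL N)) = ⊤ := by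
  classical
  obtain ⟨p, hp⟩ := CharP.exists F
  haveI : Fact p.Prime := ⟨CharP.char_is_prime F p⟩
  have h2 := SL2Tori.two_ne_zero_of_odd hodd
  haveI := finite_PGL (F := F)
  set α := toPSLAut (conjSL M) with hα
  set β := toPSLAut (conjSL N) with hβ
  set H := fix α ⊔ fix β with hH
  set g : PGL(2, F) := ProjGenLinGroup.mk M with hg
  set h : PGL(2, F) := ProjGenLinGroup.mk N with hh
  have conjG : ∀ (X : GL (Fin 2) F) (x : PSL(2, F)), toG (toPSLAut (conjSL X) x) =
      ProjGenLinGroup.mk X * toG x * (ProjGenLinGroup.mk X)⁻¹ := by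
    intro X x
    obtain ⟨A, rfl⟩ := proj_surjective x
    change ProjGenLinGroup.mk (SpecialLinearGroup.toGL (conjSL X A)) =
      ProjGenLinGroup.mk X * ProjGenLinGroup.mk (SpecialLinearGroup.toGL A) * (ProjGenLinGroup.mk X)⁻¹
    rw [← map_inv (ProjGenLinGroup.mk (n := Fin 2) (R := F)), ← map_mul, ← map_mul]
    congr 1
    exact Units.ext (conjSL_coe X A)
  have hmkM : ∀ (X : GL (Fin 2) F) (c : F), c ≠ 0 → ∀ Y : GL (Fin 2) F, Y.1 = c • X.1 →
      ProjGenLinGroup.mk Y = ProjGenLinGroup.mk X := by
    intro X c hc Y hY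
    rw [eq_comm, ProjGenLinGroup.mk_eq_mk_iff]
    refine ⟨Units.mk0 c hc, Units.ext ?_⟩
    simp only [Units.val_mul, hY]
    ext i j
    simp [Matrix.scalar, Matrix.mul_diagonal, mul_comm]
  have hgh : g * h = h * g := by
    rw [hg, hh, ← map_mul, ← map_mul]
    exact hmkM _ (-1) (neg_ne_zero.2 one_ne_zero) _ (by simp [hanti])
  have out : ∀ (X : GL (Fin 2) F), ¬ IsSquare X.1.det → ProjGenLinGroup.mk X ∉ (toG (F := F)).range := by
    intro X hX hx
    rw [← range_mk_toGL] at hx
    obtain ⟨A, hA⟩ := hx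
    obtain ⟨u, hu⟩ := (ProjGenLinGroup.mk_eq_mk_iff).1 hA
    apply hX
    have hd := congrArg (fun Z : GL (Fin 2) F => Z.1.det) hu
    exact ⟨u, by rw [← hd]; simp [sq]⟩
  -- a normaliser of the generated subgroup
  have hmaps : ∀ (X : GL (Fin 2) F), (∀ x ∈ fix α, toPSLAut (conjSL X) x ∈ fix α) →
      (∀ x ∈ fix β, toPSLAut (conjSL X) x ∈ fix β) →
      ProjGenLinGroup.mk X ∈ Subgroup.normalizer (H.map toG : Set PGL(2, F)) := by
    intro X hX1 hX2
    refine mem_normalizer_of_aut H (conjG X) (Subgroup.eq_of_le_of_card_ge ?_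
      (le_of_eq (Nat.card_congr (H.equivMapOfInjective _ (toPSLAut (conjSL X)).injective).toEquiv)))
    rw [Subgroup.map_le_iff_le_comap, hH]
    exact sup_le (fun x hx => le_sup_left (a := fix α) (hX1 x hx))
      (fun x hx => le_sup_right (b := fix β) (hX2 x hx))
  have hcomm : ∀ x, α (β x) = β (α x) := by
    intro x
    apply toG_injective
    rw [hα, hβ, conjG, conjG, conjG, conjG, ← hg, ← hh]
    calc g * (h * toG x * h⁻¹) * g⁻¹ = (g * h) * toG x * (g * h)⁻¹ := by group
      _ = (h * g) * toG x * (h * g)⁻¹ := by rw [hgh]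
      _ = h * (g * toG x * g⁻¹) * h⁻¹ := by group
  have hgN : g ∈ Subgroup.normalizer (H.map toG : Set PGL(2, F)) :=
    hmaps M (fun x hx => by rw [← hα, mem_fix.1 hx]; exact hx)
      (fun x hx => by rw [← hα, mem_fix, ← hcomm, mem_fix.1 hx])
  have hhN : h ∈ Subgroup.normalizer (H.map toG : Set PGL(2, F)) :=
    hmaps N (fun x hx => by rw [← hβ, mem_fix, hcomm, mem_fix.1 hx])
      (fun x hx => by rw [← hβ, mem_fix.1 hx]; exact hx)
  -- the torus elements
  have fix_comb : ∀ (X : GL (Fin 2) F) (A : SL(2, F)) (x y : F), A.1 = comb X.1 x y →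
      toPSLAut (conjSL X) (proj A) = proj A := by
    intro X A x y hA
    refine congrArg proj (Subtype.ext ?_)
    change X.1 * A.1 * (X⁻¹).1 = A.1
    rw [hA]
    have : X.1 * comb X.1 x y = comb X.1 x y * X.1 := by simp [comb, mul_add, add_mul]
    rw [this, mul_assoc, ← Units.val_mul, mul_inv_cancel, Units.val_one, mul_one]
  obtain ⟨A, x, y, hA, hx, hy⟩ := hM.exists_generic hodd h5
  obtain ⟨B, x', y', hB, hx', hy'⟩ := hN.exists_generic hodd h5
  have htrA : tr A = 2 * x := by rw [tr, hA, trace_comb hM.trace_zero]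
  have htrB : tr B = 2 * x' := by rw [tr, hB, trace_comb hN.trace_zero]
  have hA0 : tr A ≠ 0 := htrA ▸ mul_ne_zero h2 hx
  have hA4 : tr A ^ 2 ≠ 4 := by
    rw [htrA]
    intro h4
    have hd : (comb M.1 x y).det = 1 := hA ▸ A.2
    rw [det_comb hM.trace_zero (det_eq_neg hM.trace_zero hM.sq)] at hd
    have h4' : (4 : F) ≠ 0 := by
      rw [show (4 : F) = 2 * 2 by norm_num]
      exact mul_ne_zero h2 h2
    exact mul_ne_zero (mul_ne_zero h4' hM.e_ne_zero) (pow_ne_zero 2 hy)
      (by linear_combination h4 - 4 * hd)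
  have hBA : B * A ≠ A * B ∧ B * A ≠ -(A * B) := by
    constructor
    · intro hc
      have e1 : comb N.1 x' y' * comb M.1 x y = comb M.1 x y * comb N.1 x' y' := by
        rw [← hA, ← hB]; exact congrArg Subtype.val hc
      simp only [comb, mul_add, add_mul, smul_mul_assoc, mul_smul_comm, one_mul, mul_one, smul_smul,
        hanti, smul_neg] at e1
      have e2 : (2 * (y * y')) • (M.1 * N.1) = 0 := by
        linear_combination (norm := module) -e1
      exact (M * N).ne_zero ((smul_eq_zero.1 e2).resolve_left (mul_ne_zero h2 (mul_ne_zero hy hy')))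
    · intro hc
      apply hA0
      have e1 : tr (B * A * B⁻¹) = tr A := tr_conj A B
      rw [hc, neg_mul, tr_neg, mul_inv_cancel_right] at e1
      exact (mul_eq_zero.1 (show (2 : F) * tr A = 0 by linear_combination -e1)).resolve_left h2
  set t := proj A with ht
  set t' := proj B with ht'
  have htfix : t ∈ fix α := fix_comb M A x y hA
  have ht'fix : t' ∈ fix β := fix_comb N B x' y' hB
  -- the product of the involutions
  have hinv : g * h * toG t * (g * h)⁻¹ = (toG t)⁻¹ := by
    rw [← map_inv, show toG t⁻¹ = ProjGenLinGroup.mk (SpecialLinearGroup.toGL A⁻¹) from rfl,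
      show toG t = ProjGenLinGroup.mk (SpecialLinearGroup.toGL A) from rfl, hg, hh, ← map_mul,
      mul_inv_eq_iff_eq_mul, ← map_mul, ← map_mul]
    congr 1
    apply Units.ext
    simp only [Units.val_mul, SpecialLinearGroup.toGL, MonoidHom.coe_mk, OneHom.coe_mk]
    change M.1 * N.1 * A.1 = (A⁻¹ : SL(2, F)).1 * (M.1 * N.1)
    rw [SL2Tori.coe_inv_eq, htrA, hA]
    simp only [comb, mul_add, add_mul, smul_mul_assoc, mul_smul_comm, one_mul, mul_one, smul_smul,
      neg_one_smul]
    simp only [mul_assoc]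
    rw [hanti]
    simp only [mul_neg, smul_neg]
    simp only [neg_mul, add_mul, smul_mul_assoc, one_mul, neg_add]
    match_scalars <;> ring
  by_contra hne
  have hnot : ¬ (toG (F := F)).range ≤ Subgroup.normalizer (H.map toG : Set PGL(2, F)) := by
    intro hle
    have hn : H.Normal := Subgroup.normalizer_eq_top_iff.1 (top_le_iff.1 fun z _ =>
      mem_normalizer_map_toG.1 (hle ⟨z, rfl⟩))
    rcases IsSimpleGroup.eq_bot_or_eq_top_of_normal H hn with hb | ht0
    · have : t ∈ H := le_sup_left (a := fix α) htfix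
      rw [hb, Subgroup.mem_bot, ht, proj_eq_one_iff] at this
      rcases this with rfl | rfl <;> apply hA4 <;> simp [tr] <;> norm_num
    · exact hne ht0
  obtain ⟨K, hK, hNK⟩ := (IsCoatomic.eq_top_or_exists_le_coatom
    (Subgroup.normalizer (H.map toG : Set PGL(2, F)))).resolve_left fun e => hnot (e ▸ le_top)
  have hgK := hNK hgN
  have hKL : ¬ (toG (F := F)).range ≤ K := by
    intro hle
    have hi := index_range_toG_odd (F := F) hodd
    rcases eq_or_lt_of_le hle with he | hlt
    · exact out M hM.not_sq (he ▸ hgK)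
    · have h3 := Subgroup.relIndex_mul_index hle
      rw [hi] at h3
      have h4 : (toG (F := F)).range.relIndex K ≠ 1 := fun h =>
        (not_le_of_gt hlt) (Subgroup.relIndex_eq_one.1 h)
      have h5' : K.index = 1 := by
        rcases (Nat.dvd_prime Nat.prime_two).1 ⟨_, h3.symm⟩ with h | h
        · exact absurd h h4
        · rw [h] at h3; omega
      exact hK.1 (Subgroup.index_eq_one.1 h5')
  have memK : ∀ z ∈ H, z ∈ K.comap toG := fun z hz =>
    hNK (Subgroup.le_normalizer ⟨z, hz, rfl⟩)
  have htK := memK t (le_sup_left (a := fix α) htfix)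
  have ht'K := memK t' (le_sup_right (b := fix β) ht'fix)
  obtain ⟨γ, hγK, hγ⟩ : ∃ γ ∈ K.comap toG, γ * t * γ⁻¹ = t⁻¹ ∧ γ * γ = 1 := by
    have hq : IsSquare (M * N).1.det := by
      rw [Units.val_mul, Matrix.det_mul]
      by_contra hns
      obtain ⟨-, ⟨hM0, hN0⟩⟩ := (⟨M.det.ne_zero, (⟨M.det.ne_zero, N.det.ne_zero⟩ : _ ∧ _)⟩ : M.1.det ≠ 0 ∧ (M.1.det ≠ 0 ∧ N.1.det ≠ 0))
      rw [← quadraticChar_neg_one_iff_not_isSquare, map_mul, quadraticChar_neg_one_iff_not_isSquare.2 hM.not_sq,
        quadraticChar_neg_one_iff_not_isSquare.2 hN.not_sq] at hns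
      norm_num at hns
    obtain ⟨d, hd⟩ := hq
    have hd0 : d ≠ 0 := by rintro rfl; exact (M * N).det.ne_zero (by simpa using hd)
    let C : SL(2, F) := ⟨d⁻¹ • (M.1 * N.1), by
      rw [Matrix.det_smul, ← Units.val_mul, hd, Fintype.card_fin]; field_simp⟩
    have hC : toG (proj C) = g * h := by
      rw [hg, hh, ← map_mul]
      exact hmkM _ d⁻¹ (inv_ne_zero hd0) _ rfl
    refine ⟨proj C, ?_, toG_injective ?_, toG_injective ?_⟩
    · show toG (proj C) ∈ K
      rw [hC]
      exact mul_mem hgK (hNK hhN)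
    · rw [map_mul, map_mul, map_inv, map_inv, hC, hinv]
    · rw [map_mul, hC, map_one]
      calc g * h * (g * h) = (g * g) * (h * h) := by rw [mul_assoc, ← mul_assoc h, ← hgh]; group
        _ = 1 := by
          rw [hg, hh, ← map_mul, ← map_mul, hmkM 1 e hM.e_ne_zero (M * M) (by simp [hM.sq]),
            hmkM 1 f hN.e_ne_zero (N * N) (by simp [hN.sq]), map_one, one_mul]
  obtain ⟨hγt, hγ2⟩ := hγ
  have htne : t * t ≠ 1 := by
    rw [ht, ← proj_mul, Ne, proj_eq_one_iff, not_or]
    have key : ∀ c : F, (A * A).1 = c • (1 : Matrix (Fin 2) (Fin 2) F) → False := by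
      intro c hc
      have hcay := cayley A (tr A) rfl
      rw [pow_two, ← Matrix.SpecialLinearGroup.coe_mul, hc] at hcay
      have e2 : tr A • A.1 = (c + 1) • (1 : Matrix (Fin 2) (Fin 2) F) := by
        linear_combination (norm := module) -hcay
      rw [hA] at e2
      have := congrArg (fun Z => (Z : Matrix (Fin 2) (Fin 2) F)) e2
      simp only [comb, smul_add, smul_smul] at this
      have hm : (tr A * y) • M.1 = (c + 1 - tr A * x) • (1 : Matrix (Fin 2) (Fin 2) F) := by
        linear_combination (norm := module) this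
      have htr := congrArg Matrix.trace hm
      rw [Matrix.trace_smul, hM.trace_zero, smul_zero, Matrix.trace_smul, Matrix.trace_one,
        Fintype.card_fin, smul_eq_mul] at htr
      rw [(mul_eq_zero.1 htr.symm).resolve_right (by exact_mod_cast h2), zero_smul] at hm
      exact M.ne_zero ((smul_eq_zero.1 hm).resolve_left (mul_ne_zero hA0 hy))
    constructor <;> intro hc
    · exact key 1 (by rw [hc]; simp)
    · exact key (-1) (by rw [hc]; simp)
  rcases pgl_maximal_cases p hodd h5 hK hKL with ⟨a, ha⟩ | ⟨z, hz, -, hcom, -⟩ | ⟨P, -, -, hcom⟩ |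
    ⟨k, ik, ik', ι, w, a, r, hr, hrodd, hcard, hcom, -⟩
  · -- Borel
    rw [ha, mem_conjS] at htK hγK
    obtain ⟨a0, rfl⟩ := proj_surjective a
    rw [← proj_inv, ← proj_mul, ← proj_mul] at htK
    have hc2 : chi (proj (a0⁻¹ * A * a0)) ^ 2 = 1 := by
      set u := proj (a0⁻¹ * A * a0) with hu
      have e1 : (proj a0)⁻¹ * γ * proj a0 * u * ((proj a0)⁻¹ * γ * proj a0)⁻¹ = u⁻¹ := by
        rw [hu, proj_mul, proj_mul, proj_inv, ← ht]
        calc _ = (proj a0)⁻¹ * (γ * t * γ⁻¹) * proj a0 := by group
          _ = _ := by rw [hγt]; group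
      have e2 := congrArg chi (mul_inv_eq_iff_eq_mul.1 e1)
      rw [chi_mul _ htK, chi_mul _ hγK] at e2
      have e3 : chi (u * u⁻¹) = chi u * chi u⁻¹ := chi_mul _ (inv_mem htK)
      rw [mul_inv_cancel, chi_one] at e3
      have e4 : chi u = chi u⁻¹ := mul_right_cancel₀ (chi_ne_zero hγK)
        (by rw [← e2, mul_comm])
      rw [pow_two]
      nth_rw 2 [e4]
      exact e3.symm
    rw [chi_proj] at hc2
    rw [proj_mem_BP_iff] at htK
    have hd := det_eq_one (a0⁻¹ * A * a0)
    rw [htK, mul_zero, sub_zero] at hd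
    have htc : tr (a0⁻¹ * A * a0) = tr A := by
      simpa using tr_conj A a0⁻¹
    rw [tr, Matrix.trace_fin_two] at htc
    set m := (a0⁻¹ * A * a0).1 0 0
    set n := (a0⁻¹ * A * a0).1 1 1
    have : (m ^ 2 - 1) * (m ^ 2 + 1) = 0 := by linear_combination hc2
    rcases mul_eq_zero.1 this with h' | h'
    · apply hA4
      rw [← htc]
      linear_combination (1 - n ^ 2) * h' + (3 + m * n) * hd
    · have hm : m ≠ 0 := left_ne_zero_of_mul_eq_one hd
      apply hA0
      rw [← htc]
      exact (mul_eq_zero.1 (show m * (m + n) = 0 by linear_combination h' + hd)).resolve_left hm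
  · -- a torus
    rw [hcom] at htK ht'K
    have inT : ∀ (C : SL(2, F)), tr C ≠ 0 → proj C ∈ Subgroup.normalizer (torus z : Set PSL(2, F)) →
        proj C ∈ torus z := by
      intro C hC hCn
      obtain ⟨Z, rfl⟩ := proj_surjective z
      have hZ := isTor_proj.1 hz
      by_contra hnot'
      have hc := (mem_normalizer_torus_iff hz).1 hCn
      rw [← proj_inv, ← proj_mul, ← proj_mul, proj_mem_torus_iff] at hc
      rcases SL2Tori.eq_or_eq_inv_of_tr_eq hZ (Subgroup.mem_centralizer_singleton_iff.2 hc)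
        (tr_conj Z C) with e' | e'
      · exact hnot' ((proj_mem_torus_iff Z C).2 (mul_inv_eq_iff_eq_mul.1 e'))
      · apply hC
        have hs := congrArg (fun X : SL(2, F) => X.1) (sq_eq_neg_one_of_inv hZ e')
        have hcay := cayley C (tr C) rfl
        rw [pow_two, ← Matrix.SpecialLinearGroup.coe_mul, hs] at hcay
        have e2 : tr C • C.1 = 0 := by
          simp only [Matrix.SpecialLinearGroup.coe_neg, Matrix.SpecialLinearGroup.coe_one] at hcay
          linear_combination (norm := module) -hcay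
        exact (smul_eq_zero.1 e2).resolve_right
          (fun h0 => by have := C.2; rw [h0] at this; simp at this)
    have e1 := torus_comm hz (inT A hA0 htK) (inT B (htrB ▸ mul_ne_zero h2 hx') ht'K)
    rw [← proj_mul, ← proj_mul, proj_eq_proj_iff] at e1
    rcases e1 with e1 | e1
    · exact hBA.1 e1
    · exact hBA.2 e1
  · -- tetrahedral
    rw [hcom] at htK hγK
    have hle4 := P.four_le_tetra
    have hn4 : (P.four.subgroupOf P.tetra).Normal := Subgroup.normal_subgroupOf_of_le_normalizer P.tetra_le_normalizer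
    have hidx : (P.four.subgroupOf P.tetra).index = 3 := by
      have := Subgroup.card_mul_index (P.four.subgroupOf P.tetra)
      rw [Nat.card_congr (Subgroup.subgroupOfEquivOfLe hle4).toEquiv, P.card_four, P.card_tetra] at this
      omega
    have hcube : ∀ v ∈ P.tetra, v * v * v ∈ P.four := fun v hv => by
      have := (P.four.subgroupOf P.tetra).pow_index_mem ⟨v, hv⟩
      rw [hidx, Subgroup.mem_subgroupOf] at this
      simpa [pow_succ] using this
    have hγ4 : γ ∈ P.four := by simpa [hγ2] using hcube γ hγK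
    have hsq : t * t * γ ∈ P.four := by
      have := hn4.conj_mem ⟨γ, hγK⟩ (by simpa [Subgroup.mem_subgroupOf] using hγ4) ⟨t, htK⟩
      rw [Subgroup.mem_subgroupOf] at this
      have he : t * γ * t⁻¹ = t * t * γ := by
        have : γ * t⁻¹ = t * γ := by
          rw [← hγt, ← mul_assoc, ← mul_assoc, hγ2, one_mul, mul_inv_eq_iff_eq_mul]
          rw [mul_assoc, hγ2, mul_one]
        rw [mul_assoc, this, mul_assoc]
      rw [← he]
      exact this
    have ht2 : t * t ∈ P.four := by simpa using mul_mem hsq (inv_mem hγ4)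
    have ht1 : t ∈ P.four := by
      have h' := mul_mem (inv_mem ht2) (hcube t htK)
      rwa [show (t * t)⁻¹ * (t * t * t) = t by group] at h'
    exact htne ((isKleinFour_four P).mul_self ⟨t, ht1⟩ |> congrArg Subtype.val)
  · -- a subfield
    rw [hcom, mem_conjS] at htK
    obtain ⟨a0, rfl⟩ := proj_surjective a
    have memR : ∀ C : SL(2, F), proj C ∈ K.comap toG → ∃ C0, psiSL ι w C0 = a0⁻¹ * C * a0 := by
      intro C hC
      rw [hcom, mem_conjS, ← proj_inv, ← proj_mul, ← proj_mul] at hC
      obtain ⟨z0, hz0⟩ := hC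
      obtain ⟨C0, rfl⟩ := proj_surjective z0
      rw [psiS_proj, proj_eq_proj_iff] at hz0
      rcases hz0 with e' | e'
      · exact ⟨C0, e'.symm⟩
      · refine ⟨-C0, ?_⟩
        rw [e', neg_eq_neg_one_mul, map_mul, psiSL_neg_one, neg_one_mul]
    have hAK : ∀ C : SL(2, F), (∃ u v, C.1 = comb M.1 u v) → proj C ∈ K.comap toG := by
      rintro C ⟨u, v, hC⟩
      exact memK _ (le_sup_left (a := fix α) (fix_comb M C u v hC))
    obtain ⟨A0, hA0'⟩ := memR A (hAK A ⟨x, y, hA⟩)
    have htr0 : tr A0 ^ 2 ≠ 4 := by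
      intro h'
      apply hA4
      have := tr_conj A a0⁻¹
      rw [inv_inv, ← hA0', tr, coe_psiSL, psiMat_apply, Matrix.trace_fin_two_of, ← map_add,
        ← Matrix.trace_fin_two] at this
      rw [← this, ← map_pow, h', map_ofNat]
    have hinj : Nat.card {C : SL(2, F) // ∃ u v, C.1 = comb M.1 u v} ≤
        Nat.card (Subgroup.centralizer ({A0} : Set SL(2, k))) := by
      choose f hf using fun C : {C : SL(2, F) // ∃ u v, C.1 = comb M.1 u v} => memR C.1 (hAK C.1 C.2)
      refine Nat.card_le_card_of_injective (fun C => (⟨f C, ?_⟩ : Subgroup.centralizer ({A0} : Set SL(2, k)))) ?_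
      · rw [Subgroup.mem_centralizer_singleton_iff]
        apply psiSL_injective ι w
        rw [map_mul, map_mul, hf, hA0']
        obtain ⟨u, v, hC⟩ := C.2
        have hc : C.1 * A = A * C.1 := Subtype.ext (by
          rw [Matrix.SpecialLinearGroup.coe_mul, Matrix.SpecialLinearGroup.coe_mul, hC, hA]
          simp only [comb, mul_add, add_mul, smul_mul_assoc, mul_smul_comm, one_mul, mul_one, smul_smul]
          module)
        calc a0⁻¹ * C.1 * a0 * (a0⁻¹ * A * a0) = a0⁻¹ * (C.1 * A) * a0 := by group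
          _ = a0⁻¹ * (A * C.1) * a0 := by rw [hc]
          _ = _ := by group
      · intro C D hCD
        have := congrArg (fun Z => psiSL ι w Z) (congrArg Subtype.val hCD)
        simp only [hf] at this
        exact Subtype.ext (mul_left_cancel (mul_right_cancel this))
    have h1 := hM.card_lifts hodd
    have h3 := SL2Tori.card_centralizer htr0
    have hk3 : 3 ≤ Fintype.card k := by
      by_contra hk
      have : Fintype.card k = 2 := by have := Fintype.one_lt_card (α := k); omega
      rw [hcard, this] at hodd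
      exact Nat.not_even_iff_odd.2 hodd (even_two.pow_of_ne_zero hr.ne_zero)
    have hr3 : 3 ≤ r := by
      obtain ⟨j, rfl⟩ := hrodd
      have := hr.two_le
      omega
    have : Fintype.card k * Fintype.card k * Fintype.card k ≤ Fintype.card F := by
      rw [hcard]
      calc _ = Fintype.card k ^ 3 := by ring
        _ ≤ _ := Nat.pow_le_pow_right (by omega) hr3
    have : 9 * Fintype.card k ≤ Fintype.card k * Fintype.card k * Fintype.card k :=
      Nat.mul_le_mul_right _ (Nat.mul_le_mul hk3 hk3)
    omega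

end CfsgLib.DihedralFourAct
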